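import Cfsg.Agent.Lib.Helper5.D4O8.Main2

/-!
# The group generated by the root elements of type `D₄` over the field of two elements, on 256 points

The vectors of the natural module of dimension eight over `ZMod 2` are numbered from `0` to `255`; an invertible
matrix permutes them, faithfully, and the root element `1 + e_r` of helper5's table acts on the numbers by two
conditional changes of a binary digit (`actN`).
-/

set_option autoImplicit false

namespace Cfsg.Agent.Lib.Lead.O8P2

open Cfsg.Agent.Lib.Helper5.D4O8 Cfsg.Agent.H9.Orth Matrix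

/-- the field of two elements -/
abbrev K := ZMod 2

/-- the vectors -/
abbrev V := I8 → K

/-- the place of a coordinate -/
def pos : I8 → ℕ
  | .inl k => k.val
  | .inr k => 4 + k.val

/-- the vector of a number -/
def vecOf (c : ℕ) : V := fun i => if c.testBit (pos i) then 1 else 0

/-- the number of a vector -/
def enc (v : V) : ℕ :=
  (v (.inl 0)).val + 2 * (v (.inl 1)).val + 4 * (v (.inl 2)).val + 8 * (v (.inl 3)).val +
  16 * (v (.inr 0)).val + 32 * (v (.inr 1)).val + 64 * (v (.inr 2)).val + 128 * (v (.inr 3)).val

theorem enc_lt (v : V) : enc v < 256 := by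
  have h : ∀ x : K, x.val < 2 := fun x => ZMod.val_lt x
  unfold enc
  have := h (v (.inl 0)); have := h (v (.inl 1)); have := h (v (.inl 2)); have := h (v (.inl 3))
  have := h (v (.inr 0)); have := h (v (.inr 1)); have := h (v (.inr 2)); have := h (v (.inr 3))
  omega

set_option maxRecDepth 100000 in
theorem enc_vecOf_fin : ∀ c : Fin 256, enc (vecOf c.val) = c.val := by decide +kernel

theorem enc_vecOf {c : ℕ} (hc : c < 256) : enc (vecOf c) = c := enc_vecOf_fin ⟨c, hc⟩

/-- the coordinate of a vector given by its eight entries -/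
def sel (a b c d e f g h : K) : I8 → K
  | .inl 0 => a
  | .inl 1 => b
  | .inl 2 => c
  | .inl 3 => d
  | .inr 0 => e
  | .inr 1 => f
  | .inr 2 => g
  | .inr 3 => h

theorem key_bits : ∀ a b c d e f g h : K, ∀ i : I8,
    (if (a.val + 2 * b.val + 4 * c.val + 8 * d.val + 16 * e.val + 32 * f.val + 64 * g.val +
      128 * h.val).testBit (pos i) then (1 : K) else 0) = sel a b c d e f g h i := by decide

theorem vecOf_enc (v : V) : vecOf (enc v) = v := by
  funext i
  have := key_bits (v (.inl 0)) (v (.inl 1)) (v (.inl 2)) (v (.inl 3)) (v (.inr 0)) (v (.inr 1))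
    (v (.inr 2)) (v (.inr 3)) i
  show (if (enc v).testBit (pos i) then (1 : K) else 0) = v i
  unfold enc
  rw [this]
  rcases i with k | k <;> fin_cases k <;> rfl

/-- the vectors and the numbers below 256 -/
def vEquiv : V ≃ Fin 256 where
  toFun v := ⟨enc v, enc_lt v⟩
  invFun c := vecOf c.val
  left_inv v := vecOf_enc v
  right_inv c := Fin.ext (enc_vecOf c.2)

/-- the permutation of the vectors of an invertible matrix -/
def actPerm (g : GL I8 K) : Equiv.Perm V where
  toFun := act g
  invFun := act g⁻¹
  left_inv := act_inv_act g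
  right_inv := act_act_inv g

/-- the permutation representation on the 256 numbers -/
def rho : GL I8 K →* Equiv.Perm (Fin 256) where
  toFun g := vEquiv.symm.trans ((actPerm g).trans vEquiv)
  map_one' := by
    apply Equiv.ext
    intro c
    show vEquiv (act 1 (vEquiv.symm c)) = c
    rw [act_one]
    exact vEquiv.apply_symm_apply c
  map_mul' g h := by
    apply Equiv.ext
    intro c
    show vEquiv (act (g * h) (vEquiv.symm c)) =
      vEquiv (act g (vEquiv.symm (vEquiv (act h (vEquiv.symm c)))))
    rw [vEquiv.symm_apply_apply, act_mul]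

theorem rho_apply (g : GL I8 K) (c : Fin 256) : (rho g c).val = enc (act g (vecOf c.val)) := rfl

theorem rho_injective : Function.Injective rho := by
  rw [injective_iff_map_eq_one]
  intro g hg
  apply gl_ext
  intro x
  rw [act_one]
  have h : rho g (vEquiv x) = vEquiv x := by rw [hg]; rfl
  have h2 : vEquiv (act g (vEquiv.symm (vEquiv x))) = vEquiv x := h
  rw [vEquiv.symm_apply_apply] at h2
  exact vEquiv.injective h2

/-! ### the root elements -/

/-- the action of the root element `r` on the numbers -/
def actN (r c : ℕ) : ℕ :=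
  Nat.xor (Nat.xor c (if c.testBit (pos (rootB r)) then 2 ^ pos (rootA r) else 0))
    (if c.testBit (pos (rootA r).swap) then 2 ^ pos (rootB r).swap else 0)

/-- the check of the action of the root elements -/
def chkAct : Bool :=
  (List.range 24).all fun r => (List.range 256).all fun c =>
    Nat.blt (actN r c) 256 &&
    idxL.all fun i => decide (vecOf (actN r c) i =
      (vecOf c + (vecOf c (rootB r)) • eb K (rootA r) -
        (vecOf c (rootA r).swap) • eb K (rootB r).swap) i)

set_option maxRecDepth 100000 in
theorem chkAct_ok : chkAct = true := by decide +kernel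

theorem cast_rootC (r : ℕ) (hr : r < 24) : ((rootC r : ℤ) : K) = 1 := by
  have h := rootC_sq K r hr
  revert h
  generalize ((rootC r : ℤ) : K) = x
  revert x
  decide

/-- the action of the root element on the vector of a number -/
theorem act_X {r : ℕ} (hr : r < 24) {c : ℕ} (hc : c < 256) :
    actN r c < 256 ∧ act (X8 K r 1) (vecOf c) = vecOf (actN r c) := by
  have h := chkAct_ok
  unfold chkAct at h
  rw [List.all_eq_true] at h
  have h1 := h r (List.mem_range.2 hr)
  rw [List.all_eq_true] at h1
  have h2 := h1 c (List.mem_range.2 hc)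
  rw [Bool.and_eq_true, List.all_eq_true] at h2
  obtain ⟨h3, h4⟩ := h2
  refine ⟨by simpa [Nat.blt] using h3, ?_⟩
  obtain ⟨hAB, -, -⟩ := root_spec r hr
  have hcs : (rootB r).swap ≠ (rootA r).swap := fun h => hAB (swap_inj h).symm
  rw [X8_eq_rt K r hr, act_rt K _ _ hcs, swap_swap', cast_rootC r hr, mul_one, one_mul, one_mul]
  funext i
  have := h4 i (mem_idxL i)
  rw [decide_eq_true_eq] at this
  exact this.symm

theorem rho_X {r : ℕ} (hr : r < 24) (c : Fin 256) : (rho (X8 K r 1) c).val = actN r c.val := by
  obtain ⟨h1, h2⟩ := act_X hr c.2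
  rw [rho_apply, h2, enc_vecOf h1]

/-- the table of the root element `r` -/
def tbl (r : ℕ) : List ℕ := (List.range 256).map (actN r)

theorem tbl_getD (r : ℕ) {c : ℕ} (hc : c < 256) : (tbl r).getD c 0 = actN r c := by
  unfold tbl
  rw [List.getD_eq_getElem?_getD, List.getElem?_map, List.getElem?_range hc]
  rfl

theorem rho_X_tbl {r : ℕ} (hr : r < 24) (c : Fin 256) :
    (rho (X8 K r 1) c).val = (tbl r).getD c.val 0 := by
  rw [rho_X hr, tbl_getD r c.2]

/-- the action of a word in the root elements -/
def actW (w : List ℕ) (c : ℕ) : ℕ := w.foldr actN c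

theorem actW_lt : ∀ (w : List ℕ), (∀ r ∈ w, r < 24) → ∀ {c : ℕ}, c < 256 → actW w c < 256
  | [], _, _, hc => hc
  | r :: w, hw, c, hc => by
    have ih := actW_lt w (fun s hs => hw s (List.mem_cons_of_mem _ hs)) hc
    exact (act_X (hw r List.mem_cons_self) ih).1

/-- the product of the root elements of a word -/
def prodX (w : List ℕ) : GL I8 K := (w.map fun r => X8 K r 1).prod

theorem rho_prodX : ∀ (w : List ℕ), (∀ r ∈ w, r < 24) → ∀ c : Fin 256,
    (rho (prodX w) c).val = actW w c.val
  | [], _, c => by
    show (rho 1 c).val = c.val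
    rw [map_one]; rfl
  | r :: w, hw, c => by
    have hw' : ∀ s ∈ w, s < 24 := fun s hs => hw s (List.mem_cons_of_mem _ hs)
    have ih := rho_prodX w hw' c
    show (rho (X8 K r 1 * prodX w) c).val = actN r (actW w c.val)
    rw [map_mul, Equiv.Perm.mul_apply, rho_X (hw r List.mem_cons_self), ih]

/-- two words with the same action on the numbers have the same product -/
theorem prodX_eq_of_actW {w w' : List ℕ} (hw : ∀ r ∈ w, r < 24) (hw' : ∀ r ∈ w', r < 24)
    (h : ∀ c, c < 256 → actW w c = actW w' c) : prodX w = prodX w' := by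
  apply rho_injective
  apply Equiv.ext
  intro c
  apply Fin.ext
  rw [rho_prodX w hw, rho_prodX w' hw', h c.val c.2]

end Cfsg.Agent.Lib.Lead.O8P2
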