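import Cfsg.Agent.Lib.Lead.O8P2.Code
import Cfsg.Agent.Lib.Lead.POmegaTr
import Cfsg.Agent.S1061
import Cfsg.Agent.S0296

/-!
# A concrete model of `PΩ⁺₈(2)`

`G0` is the subgroup of `GL₈(ZMod 2)` generated by the root elements of helper5's table (it is `Ω⁺₈(2)`).  It acts
faithfully on the 256 numbers of the vectors (`rho0`), with explicit tables for the root elements; its centre is
trivial, so it is isomorphic to `PΩ⁺₈(F)` for every field `F` of two elements; it has 174182400 elements, it is simple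
and perfect, and it is generated by the five root elements `0, 1, 17, 20, 21`.
-/

set_option autoImplicit false

namespace Cfsg.Agent.Lib.Lead.O8P2

open Cfsg Cfsg.Lie Cfsg.Agent.Lib.Helper5.D4O8 Cfsg.Agent.H9.Orth Matrix

/-- the concrete group -/
abbrev G0 : Type := ↥(E8 K)

/-- the root element `r` -/
def gen (r : ℕ) : G0 := ⟨X8 K r 1, X8_mem_E8 K r 1⟩

theorem gen_val (r : ℕ) : (gen r : GL I8 K) = X8 K r 1 := rfl

theorem gen_mul_self (r : ℕ) : gen r * gen r = 1 := by
  apply Subtype.ext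
  show X8 K r 1 * X8 K r 1 = 1
  rw [X8_mul]
  have h : (1 : K) + 1 = 0 := by decide
  rw [h]
  apply Units.ext
  exact X8M_zero K r

/-- the faithful permutation representation -/
def rho0 : G0 →* Equiv.Perm (Fin 256) := rho.comp (E8 K).subtype

theorem rho0_injective : Function.Injective rho0 := rho_injective.comp (E8 K).subtype_injective

theorem rho0_gen {r : ℕ} (hr : r < 24) (c : Fin 256) :
    (rho0 (gen r) c).val = (tbl r).getD c.val 0 := rho_X_tbl hr c

theorem rho0_gen_actN {r : ℕ} (hr : r < 24) (c : Fin 256) : (rho0 (gen r) c).val = actN r c.val :=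
  rho_X hr c

/-- the product of the root elements of a word, in the group -/
def prodG (w : List ℕ) : G0 := (w.map gen).prod

theorem prodG_val : ∀ w : List ℕ, (prodG w : GL I8 K) = prodX w
  | [] => rfl
  | r :: w => by
    show ((gen r * prodG w : G0) : GL I8 K) = X8 K r 1 * prodX w
    rw [Subgroup.coe_mul, prodG_val w]
    rfl

theorem rho0_prodG (w : List ℕ) (hw : ∀ r ∈ w, r < 24) (c : Fin 256) :
    (rho0 (prodG w) c).val = actW w c.val := by
  show (rho ((prodG w : G0) : GL I8 K) c).val = _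
  rw [prodG_val, rho_prodX w hw]

/-! ### the centre -/

set_option maxRecDepth 100000 in
theorem cen_fix : ∀ i ∈ idxL, ∀ c ∈ List.range 256,
    (∀ r ∈ List.range 24, actN r (2 ^ pos i) = 2 ^ pos i → actN r c = c) → c = 0 ∨ c = 2 ^ pos i := by
  decide +kernel

theorem vecOf_pow : ∀ i j : I8, vecOf (2 ^ pos i) j = if j = i then 1 else 0 := by decide

theorem vecOf_pow_eq (i : I8) : vecOf (2 ^ pos i) = eb K i := by
  funext j
  rw [vecOf_pow, eb_apply]

theorem pow_pos_lt (i : I8) : 2 ^ pos i < 256 := by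
  rcases i with k | k <;> fin_cases k <;> decide

theorem vecOf_zero : vecOf 0 = 0 := by
  funext i
  show (if Nat.testBit 0 (pos i) then (1 : K) else 0) = 0
  rw [Nat.zero_testBit]
  rfl

theorem enc_zero : enc (0 : V) = 0 := by decide

/-- an invertible matrix commuting with all the root elements is the identity -/
theorem eq_one_of_commute (z : GL I8 K) (hz : ∀ r, r < 24 → z * X8 K r 1 = X8 K r 1 * z) : z = 1 := by
  have h0 : rho z ⟨0, by norm_num⟩ = ⟨0, by norm_num⟩ := by
    apply Fin.ext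
    rw [rho_apply]
    show enc (act z (vecOf 0)) = 0
    rw [vecOf_zero, act_zero, enc_zero]
  have hfix : ∀ i : I8, act z (eb K i) = eb K i := by
    intro i
    set p : Fin 256 := ⟨2 ^ pos i, pow_pos_lt i⟩ with hp
    have hc := cen_fix i (mem_idxL i) (rho z p).val (List.mem_range.2 (rho z p).2) (by
      intro r hr hr2
      have hr' : r < 24 := List.mem_range.1 hr
      have h1 : rho (X8 K r 1) p = p := by
        apply Fin.ext
        rw [rho_X hr']
        exact hr2
      have h2 : rho z (rho (X8 K r 1) p) = rho (X8 K r 1) (rho z p) := by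
        rw [← Equiv.Perm.mul_apply, ← Equiv.Perm.mul_apply, ← map_mul, ← map_mul, hz r hr']
      rw [h1] at h2
      have h3 := congrArg Fin.val h2
      rw [rho_X hr'] at h3
      exact h3.symm)
    have hp' : rho z p = p := by
      rcases hc with hc | hc
      · exfalso
        have h1 : rho z p = rho z ⟨0, by norm_num⟩ := by rw [h0]; exact Fin.ext hc
        have h2 := congrArg Fin.val ((rho z).injective h1)
        have h3 : (2 : ℕ) ^ pos i = 0 := h2
        exact absurd h3 (by positivity)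
      · exact Fin.ext hc
    have h4 : vEquiv (act z (vecOf (2 ^ pos i))) = p := hp'
    have h5 : act z (vecOf (2 ^ pos i)) = vecOf (2 ^ pos i) := by
      have := congrArg vEquiv.symm h4
      rw [vEquiv.symm_apply_apply] at this
      exact this
    rw [vecOf_pow_eq] at h5
    exact h5
  apply Units.ext
  apply Matrix.ext_of_mulVec_single
  intro i
  rw [Units.val_one, Matrix.one_mulVec]
  exact hfix i

theorem center_G0 : Subgroup.center G0 = ⊥ := by
  rw [eq_bot_iff]
  intro z hz
  rw [Subgroup.mem_bot]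
  apply Subtype.ext
  apply eq_one_of_commute z.1
  intro r _
  have := Subgroup.mem_center_iff.1 hz (gen r)
  exact (congrArg Subtype.val this).symm

/-! ### the isomorphisms -/

/-- the commutator subgroup of the isometry group is the concrete group -/
noncomputable def omegaEquiv : ↥(Cfsg.Omega K (Q8 K)) ≃* G0 :=
  (MulEquiv.subgroupCongr (omega_eq K)).trans (Subgroup.subgroupOfEquivOfLe (E8_le K))

theorem center_omega : Subgroup.center ↥(Cfsg.Omega K (Q8 K)) = ⊥ := by
  rw [eq_bot_iff]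
  intro z hz
  rw [Subgroup.mem_bot]
  have h : omegaEquiv z ∈ Subgroup.center G0 := by
    rw [Subgroup.mem_center_iff]
    intro g
    obtain ⟨y, rfl⟩ := omegaEquiv.surjective g
    rw [← map_mul, ← map_mul, Subgroup.mem_center_iff.1 hz y]
  rw [center_G0, Subgroup.mem_bot] at h
  exact omegaEquiv.injective (by rw [h, map_one])

/-- the projective group over `ZMod 2` is the concrete group -/
noncomputable def pomegaEquiv : Cfsg.POmega K (Cfsg.quadFormPlus 4 K) ≃* G0 :=
  ((QuotientGroup.quotientMulEquivOfEq center_omega).trans QuotientGroup.quotientBot).trans omegaEquiv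

theorem card_D4 : Nat.card ↥(chevD4.group K) = 174182400 := by
  have h := Cfsg.Agent.S1061.result (F := K) (q := 2) (ZMod.card 2)
  norm_num at h
  exact h

theorem card_G0 : Nat.card G0 = 174182400 := by
  obtain ⟨e⟩ := Cfsg.Agent.Lib.Helper5.D4O8.main K
  rw [← Nat.card_congr pomegaEquiv.toEquiv, ← Nat.card_congr e.toEquiv, card_D4]

instance finite_G0 : Finite G0 := Nat.finite_of_card_ne_zero (by rw [card_G0]; norm_num)

theorem simple_G0 : IsSimpleGroup G0 := by
  have : IsSimpleGroup (Cfsg.POmega K (Cfsg.quadFormPlus 4 K)) := Cfsg.Agent.S0296.result (F := K) 4 le_rfl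
  exact pomegaEquiv.symm.isSimpleGroup

theorem commutator_G0 : commutator G0 = ⊤ := by
  have hs := simple_G0
  have hn : (commutator G0).Normal := by
    rw [commutator_def]
    exact Subgroup.commutator_normal ⊤ ⊤
  rcases hn.eq_bot_or_eq_top with h | h
  · exfalso
    rw [commutator_eq_bot_iff_center_eq_top, center_G0] at h
    exact bot_ne_top h
  · exact h

/-- **`PΩ⁺₈(F)` is the concrete group, for every field `F` of two elements** -/
theorem exists_iso (F : Type*) [Field F] [Fintype F] (hF : Fintype.card F = 2) :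
    Nonempty (Cfsg.POmega F (Cfsg.quadFormPlus 4 F) ≃* G0) := by
  have e0 : F ≃+* K := FiniteField.ringEquivOfCardEq (by rw [hF, ZMod.card])
  exact ⟨(Cfsg.Agent.Lib.Lead.POmegaTr.pomegaPlusEquiv e0 4).trans pomegaEquiv⟩

/-! ### five generators -/

/-- the five root elements that generate the group -/
def letters : List ℕ := [0, 1, 17, 20, 21]

/-- the other root elements as words in the five -/
def wordTab : List (List ℕ) := [
  [0],
  [1],
  [0, 17, 0, 17, 1, 20, 1, 20, 0, 17, 0, 17, 1, 20, 1, 20],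
  [0, 17, 0, 17, 1, 21, 1, 21, 0, 17, 0, 17, 1, 21, 1, 21],
  [0, 17, 0, 17],
  [1, 17, 1, 17],
  [0, 20, 0, 20, 1, 21, 1, 21, 0, 20, 0, 20, 1, 21, 1, 21],
  [0, 20, 0, 20],
  [0, 21, 0, 21],
  [0, 17, 0, 17, 20, 0, 21, 0, 21, 20, 0, 21, 0, 21, 0, 17, 0, 17, 20, 0, 21, 0, 21, 20, 0, 21, 0, 21],
  [1, 20, 1, 20],
  [1, 21, 1, 21],
  [17, 0, 20, 0, 20, 17, 0, 20, 0, 20],
  [17, 0, 21, 0, 21, 17, 0, 21, 0, 21],
  [1, 17, 1, 17, 20, 1, 21, 1, 21, 20, 1, 21, 1, 21, 1, 17, 1, 17, 20, 1, 21, 1, 21, 20, 1, 21, 1, 21],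
  [17, 1, 20, 1, 20, 17, 1, 20, 1, 20],
  [17, 1, 21, 1, 21, 17, 1, 21, 1, 21],
  [17],
  [20, 0, 21, 0, 21, 20, 0, 21, 0, 21],
  [20, 1, 21, 1, 21, 20, 1, 21, 1, 21],
  [20],
  [21],
  [17, 20, 0, 21, 0, 21, 20, 0, 21, 0, 21, 17, 20, 0, 21, 0, 21, 20, 0, 21, 0, 21],
  [17, 20, 1, 21, 1, 21, 20, 1, 21, 1, 21, 17, 20, 1, 21, 1, 21, 20, 1, 21, 1, 21]]

/-- the word of the root element `r` -/
def wordOf (r : ℕ) : List ℕ := wordTab.getD r []

set_option maxRecDepth 100000 in
theorem chkWords : ∀ r ∈ List.range 24, (∀ s ∈ wordOf r, s ∈ letters) ∧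
    ∀ c ∈ List.range 256, actW (wordOf r) c = actN r c := by decide +kernel

theorem letters_lt : ∀ s ∈ letters, s < 24 := by decide

theorem X_eq_word {r : ℕ} (hr : r < 24) : X8 K r 1 = prodX (wordOf r) := by
  obtain ⟨h1, h2⟩ := chkWords r (List.mem_range.2 hr)
  have h3 : prodX [r] = prodX (wordOf r) := by
    apply prodX_eq_of_actW
    · intro s hs
      rw [List.mem_singleton] at hs
      rw [hs]; exact hr
    · intro s hs
      exact letters_lt s (h1 s hs)
    · intro c hc
      rw [h2 c (List.mem_range.2 hc)]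
      rfl
  rw [← h3]
  show X8 K r 1 = X8 K r 1 * 1
  rw [mul_one]

/-- the list of the generators -/
def gens : List G0 := letters.map gen

/-- **the five root elements generate the group** -/
theorem closure_gens : Subgroup.closure {g : G0 | g ∈ gens} = ⊤ := by
  apply Subgroup.map_injective (E8 K).subtype_injective
  rw [MonoidHom.map_closure, ← MonoidHom.range_eq_map, Subgroup.range_subtype]
  apply le_antisymm
  · rw [Subgroup.closure_le]
    rintro _ ⟨g, -, rfl⟩
    exact g.2
  · have hmem : ∀ s ∈ letters, X8 K s 1 ∈ Subgroup.closure ((E8 K).subtype '' {g : G0 | g ∈ gens}) := by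
      intro s hs
      apply Subgroup.subset_closure
      exact ⟨gen s, List.mem_map.2 ⟨s, hs, rfl⟩, rfl⟩
    have hprod : ∀ w : List ℕ, (∀ s ∈ w, s ∈ letters) →
        prodX w ∈ Subgroup.closure ((E8 K).subtype '' {g : G0 | g ∈ gens}) := by
      intro w
      induction w with
      | nil => intro _; exact Subgroup.one_mem _
      | cons s w ih =>
        intro hw
        show X8 K s 1 * prodX w ∈ _
        exact Subgroup.mul_mem _ (hmem s (hw s List.mem_cons_self))
          (ih fun t ht => hw t (List.mem_cons_of_mem _ ht))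
    unfold E8
    rw [Subgroup.closure_le]
    rintro _ ⟨r, hr, t, rfl⟩
    have ht : t = 0 ∨ t = 1 := by revert t; decide
    rcases ht with rfl | rfl
    · have : X8 K r 0 = 1 := by
        apply Units.ext
        exact X8M_zero K r
      rw [this]
      exact Subgroup.one_mem _
    · rw [X_eq_word hr]
      exact hprod _ (chkWords r (List.mem_range.2 hr)).1

/-! ### the tables of the five generators -/

/-- the table of the root element `0` -/
def tbl0 : List ℕ := [0, 33, 18, 51, 4, 37, 22, 55, 8, 41, 26, 59, 12, 45, 30, 63, 16, 49, 2, 35, 20, 53, 6, 39, 24, 57, 10, 43, 28, 61, 14, 47, 32, 1, 50, 19, 36, 5, 54, 23, 40, 9, 58, 27, 44, 13, 62, 31, 48, 17, 34, 3, 52, 21, 38, 7, 56, 25, 42, 11, 60, 29, 46, 15, 64, 97, 82, 115, 68, 101, 86, 119, 72, 105, 90, 123, 76, 109, 94, 127, 80, 113, 66, 99, 84, 117, 70, 103, 88, 121, 74, 107, 92, 125, 78, 111, 96, 65, 114, 83, 100, 69, 118, 87, 104, 73, 122, 91, 108, 77, 126, 95, 112, 81, 98, 67, 116, 85, 102, 71, 120, 89, 106, 75, 124,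 93, 110, 79, 128, 161, 146, 179, 132, 165, 150, 183, 136, 169, 154, 187, 140, 173, 158, 191, 144, 177, 130, 163, 148, 181, 134, 167, 152, 185, 138, 171, 156, 189, 142, 175, 160, 129, 178, 147, 164, 133, 182, 151, 168, 137, 186, 155, 172, 141, 190, 159, 176, 145, 162, 131, 180, 149, 166, 135, 184, 153, 170, 139, 188, 157, 174, 143, 192, 225, 210, 243, 196, 229, 214, 247, 200, 233, 218, 251, 204, 237, 222, 255, 208, 241, 194, 227, 212, 245, 198, 231, 216, 249, 202, 235, 220, 253, 206, 239, 224, 193, 242, 211, 228, 197, 246, 215, 232, 201, 250, 219, 236, 205, 254, 223, 240, 209, 226, 195, 244, 213, 230, 199, 248, 217, 234, 203, 252, 221, 238, 207]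

theorem tbl0_eq : tbl 0 = tbl0 := by decide +kernel

/-- the table of the root element `1` -/
def tbl1 : List ℕ := [0, 65, 2, 67, 20, 85, 22, 87, 8, 73, 10, 75, 28, 93, 30, 95, 16, 81, 18, 83, 4, 69, 6, 71, 24, 89, 26, 91, 12, 77, 14, 79, 32, 97, 34, 99, 52, 117, 54, 119, 40, 105, 42, 107, 60, 125, 62, 127, 48, 113, 50, 115, 36, 101, 38, 103, 56, 121, 58, 123, 44, 109, 46, 111, 64, 1, 66, 3, 84, 21, 86, 23, 72, 9, 74, 11, 92, 29, 94, 31, 80, 17, 82, 19, 68, 5, 70, 7, 88, 25, 90, 27, 76, 13, 78, 15, 96, 33, 98, 35, 116, 53, 118, 55, 104, 41, 106, 43, 124, 61, 126, 63, 112, 49, 114, 51, 100, 37, 102, 39, 120, 57, 122, 59, 108, 45, 110, 47, 128, 193, 130, 195, 148, 213, 150, 215, 136, 201, 138, 203, 156, 221, 158, 223, 144, 209, 146, 211, 132, 197, 134, 199, 152, 217, 154, 219, 140, 205, 142, 207, 160, 225, 162, 227, 180, 245, 182, 247, 168, 233, 170, 235, 188, 253, 190, 255, 176, 241, 178, 243, 164, 229, 166, 231, 184, 249, 186, 251, 172, 237, 174, 239, 192, 129, 194, 131,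 212, 149, 214, 151, 200, 137, 202, 139, 220, 157, 222, 159, 208, 145, 210, 147, 196, 133, 198, 135, 216, 153, 218, 155, 204, 141, 206, 143, 224, 161, 226, 163, 244, 181, 246, 183, 232, 169, 234, 171, 252, 189, 254, 191, 240, 177, 242, 179, 228, 165, 230, 167, 248, 185, 250, 187, 236, 173, 238, 175]

theorem tbl1_eq : tbl 1 = tbl1 := by decide +kernel

/-- the table of the root element `17` -/
def tbl17 : List ℕ := [0, 1, 2, 3, 4, 5, 6, 7, 8, 9, 10, 11, 12, 13, 14, 15, 16, 17, 18, 19, 20, 21, 22, 23, 24, 25, 26, 27, 28, 29, 30, 31, 36, 37, 38, 39, 32, 33, 34, 35, 44, 45, 46, 47, 40, 41, 42, 43, 52, 53, 54, 55, 48, 49, 50, 51, 60, 61, 62, 63, 56, 57, 58, 59, 66, 67, 64, 65, 70, 71, 68, 69, 74, 75, 72, 73, 78, 79, 76, 77, 82, 83, 80, 81, 86, 87, 84, 85, 90, 91, 88, 89, 94, 95, 92, 93, 102, 103, 100, 101, 98, 99, 96, 97, 110, 111, 108, 109, 106, 107, 104, 105, 118, 119, 116, 117, 114, 115, 112, 113, 126, 127, 124, 125, 122, 123, 120, 121, 128, 129, 130, 131, 132, 133, 134, 135,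 136, 137, 138, 139, 140, 141, 142, 143, 144, 145, 146, 147, 148, 149, 150, 151, 152, 153, 154, 155, 156, 157, 158, 159, 164, 165, 166, 167, 160, 161, 162, 163, 172, 173, 174, 175, 168, 169, 170, 171, 180, 181, 182, 183, 176, 177, 178, 179, 188, 189, 190, 191, 184, 185, 186, 187, 194, 195, 192, 193, 198, 199, 196, 197, 202, 203, 200, 201, 206, 207, 204, 205, 210, 211, 208, 209, 214, 215, 212, 213, 218, 219, 216, 217, 222, 223, 220, 221, 230, 231, 228, 229, 226, 227, 224, 225, 238, 239, 236, 237, 234, 235, 232, 233, 246, 247, 244, 245, 242, 243, 240, 241, 254, 255, 252, 253, 250, 251, 248, 249]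

theorem tbl17_eq : tbl 17 = tbl17 := by decide +kernel

/-- the table of the root element `20` -/
def tbl20 : List ℕ := [0, 1, 2, 3, 4, 5, 6, 7, 8, 9, 10, 11, 12, 13, 14, 15, 24, 25, 26, 27, 28, 29, 30, 31, 16, 17, 18, 19, 20, 21, 22, 23, 32, 33, 34, 35, 36, 37, 38, 39, 40, 41, 42, 43, 44, 45, 46, 47, 56, 57, 58, 59, 60, 61, 62, 63, 48, 49, 50, 51, 52, 53, 54, 55, 64, 65, 66, 67, 68, 69, 70, 71, 72, 73, 74, 75, 76, 77, 78, 79, 88, 89, 90, 91, 92, 93, 94, 95, 80, 81, 82, 83, 84, 85, 86, 87, 96, 97, 98, 99, 100, 101, 102, 103, 104, 105, 106, 107, 108, 109, 110, 111, 120, 121, 122, 123, 124, 125, 126, 127, 112, 113, 114, 115, 116, 117, 118, 119, 129, 128, 131, 130, 133, 132, 135, 134, 137, 136, 139, 138, 141, 140, 143, 142, 153, 152, 155, 154, 157, 156, 159, 158, 145, 144, 147, 146, 149, 148, 151, 150, 161, 160, 163, 162, 165, 164, 167, 166, 169, 168, 171, 170, 173, 172, 175, 174, 185, 184, 187, 186, 189, 188, 191, 190, 177, 176, 179, 178, 181, 180, 183, 182, 193, 192, 195,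 194, 197, 196, 199, 198, 201, 200, 203, 202, 205, 204, 207, 206, 217, 216, 219, 218, 221, 220, 223, 222, 209, 208, 211, 210, 213, 212, 215, 214, 225, 224, 227, 226, 229, 228, 231, 230, 233, 232, 235, 234, 237, 236, 239, 238, 249, 248, 251, 250, 253, 252, 255, 254, 241, 240, 243, 242, 245, 244, 247, 246]

theorem tbl20_eq : tbl 20 = tbl20 := by decide +kernel

/-- the table of the root element `21` -/
def tbl21 : List ℕ := [0, 1, 2, 3, 4, 5, 6, 7, 9, 8, 11, 10, 13, 12, 15, 14, 144, 145, 146, 147, 148, 149, 150, 151, 153, 152, 155, 154, 157, 156, 159, 158, 32, 33, 34, 35, 36, 37, 38, 39, 41, 40, 43, 42, 45, 44, 47, 46, 176, 177, 178, 179, 180, 181, 182, 183, 185, 184, 187, 186, 189, 188, 191, 190, 64, 65, 66, 67, 68, 69, 70, 71, 73, 72, 75, 74, 77, 76, 79, 78, 208, 209, 210, 211, 212, 213, 214, 215, 217, 216, 219, 218, 221, 220, 223, 222, 96, 97, 98, 99, 100, 101, 102, 103, 105, 104, 107, 106, 109, 108, 111, 110, 240, 241, 242, 243, 244, 245, 246, 247, 249, 248, 251, 250, 253,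 252, 255, 254, 128, 129, 130, 131, 132, 133, 134, 135, 137, 136, 139, 138, 141, 140, 143, 142, 16, 17, 18, 19, 20, 21, 22, 23, 25, 24, 27, 26, 29, 28, 31, 30, 160, 161, 162, 163, 164, 165, 166, 167, 169, 168, 171, 170, 173, 172, 175, 174, 48, 49, 50, 51, 52, 53, 54, 55, 57, 56, 59, 58, 61, 60, 63, 62, 192, 193, 194, 195, 196, 197, 198, 199, 201, 200, 203, 202, 205, 204, 207, 206, 80, 81, 82, 83, 84, 85, 86, 87, 89, 88, 91, 90, 93, 92, 95, 94, 224, 225, 226, 227, 228, 229, 230, 231, 233, 232, 235, 234, 237, 236, 239, 238, 112, 113, 114, 115, 116, 117, 118, 119, 121, 120, 123, 122, 125, 124, 127, 126]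

theorem tbl21_eq : tbl 21 = tbl21 := by decide +kernel

end Cfsg.Agent.Lib.Lead.O8P2
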